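import Mathlib
import Cfsg.Agent.H9.Minus4
import Cfsg.Prelude.Def_Classical

/-!
The quadratic extension `QE F a b` of a finite field as a field: Frobenius is conjugation, and the
unitary condition in matrix form (author: helper5).
-/

set_option autoImplicit false

namespace Cfsg.Agent.Lib.Helper5.U4O6

open Cfsg.Agent.H9.Minus4 Matrix

universe u

section ring
variable {F : Type u} [Field F] {a b : F}

/-- the embedding of the ground field, as a ring hom -/
def ofHom : F →+* QE F a b where
  toFun := QE.of
  map_one' := QE.of_one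
  map_mul' := QE.of_mul
  map_zero' := QE.of_zero
  map_add' := QE.of_add

theorem ofHom_apply (r : F) : (ofHom r : QE F a b) = QE.of r := rfl

instance instAlgebraQE : Algebra F (QE F a b) := (ofHom : F →+* QE F a b).toAlgebra

theorem algebraMap_QE (r : F) : algebraMap F (QE F a b) r = QE.of r := rfl

/-- conjugation as a ring hom -/
def conjHom : QE F a b →+* QE F a b where
  toFun := QE.conj
  map_one' := by ext <;> simp
  map_mul' := QE.conj_mul
  map_zero' := by ext <;> simp
  map_add' := QE.conj_add

theorem conjHom_apply (z : QE F a b) : conjHom z = QE.conj z := rfl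

theorem conjHom_conjHom (z : QE F a b) : conjHom (conjHom z) = z := QE.conj_conj z

/-- the generator -/
def th : QE F a b := ⟨0, 1⟩

theorem decomp (z : QE F a b) : z = QE.of z.re + QE.of z.im * th := by
  ext <;> simp [th]

theorem th_add_conj : (th : QE F a b) + QE.conj th = QE.of a := by
  ext <;> simp [th]

theorem th_mul_conj : (th : QE F a b) * QE.conj th = QE.of b := by
  ext <;> simp [th]

theorem th_poly : (th : QE F a b) * th - QE.of a * th + QE.of b = 0 := by
  ext <;> simp [th]

theorem mul_conj_eq (z : QE F a b) : z * conjHom z = QE.of (QE.nrm z) := QE.mul_conj z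

theorem nrm_mul_eq (z w : QE F a b) : QE.nrm (z * w) = QE.nrm z * QE.nrm w := QE.nrm_mul z w

end ring

section field
variable {F : Type u} [Field F] [Fintype F] {a b : F} [hab : Fact (QE.Aniso a b)]

noncomputable instance instFieldQE : Field (QE F a b) := QE.field hab.out

theorem finrank_QE : Module.finrank F (QE F a b) = 2 := by
  have h := Module.card_eq_pow_finrank (K := F) (V := QE F a b)
  rw [QE.card_eq] at h
  have hq : 2 ≤ Fintype.card F := Fintype.one_lt_card
  exact (Nat.pow_right_injective hq h).symm

theorem frob_th : (th : QE F a b) ^ Fintype.card F = QE.conj th := by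
  set ψ := FiniteField.frobeniusAlgHom F (QE F a b) with hψ
  have hof : ∀ r : F, ψ (QE.of r) = QE.of r := fun r => ψ.commutes r
  have h1 : ψ th * ψ th - QE.of a * ψ th + QE.of b = 0 := by
    have := congrArg ψ (th_poly (a := a) (b := b))
    rwa [map_add, map_sub, map_mul, map_mul, hof, hof, map_zero] at this
  have hfac : (ψ th - th) * (ψ th - QE.conj th) = 0 := by
    linear_combination h1 - ψ th * (th_add_conj (a := a) (b := b)) + (th_mul_conj (a := a) (b := b))
  rcases mul_eq_zero.1 hfac with h | h
  · exfalso
    have hid : ψ = 1 := by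
      apply AlgHom.ext
      intro z
      rw [decomp z, map_add, map_mul, hof, hof, sub_eq_zero.1 h]
      rfl
    have := FiniteField.orderOf_frobeniusAlgHom F (QE F a b)
    rw [← hψ, hid, finrank_QE, orderOf_one] at this
    omega
  · exact sub_eq_zero.1 h

theorem pow_card_eq_conj (z : QE F a b) : z ^ Fintype.card F = QE.conj z := by
  have h : z ^ Fintype.card F = FiniteField.frobeniusAlgHom F (QE F a b) z := rfl
  rw [h]
  conv_lhs => rw [decomp z]
  rw [map_add, map_mul]
  have hof : ∀ r : F, FiniteField.frobeniusAlgHom F (QE F a b) (QE.of r) = QE.of r :=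
    fun r => (FiniteField.frobeniusAlgHom F (QE F a b)).commutes r
  rw [hof, hof]
  have h2 : FiniteField.frobeniusAlgHom F (QE F a b) th = th ^ Fintype.card F := rfl
  rw [h2, frob_th]
  ext <;> simp [th] <;> ring

/-- the unitary condition in matrix form -/
def IsU (A : Matrix (Fin 4) (Fin 4) (QE F a b)) : Prop :=
  A.det = 1 ∧ Aᵀ * A.map conjHom = 1

theorem isU_of_mem (A : Matrix.SpecialLinearGroup (Fin 4) (QE F a b))
    (hA : A ∈ Cfsg.SU 4 (QE F a b) (Fintype.card F)) : IsU A.1 := by
  refine ⟨A.2, ?_⟩
  refine Matrix.ext fun j k => ?_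
  have h := hA (Pi.single j 1) (Pi.single k 1)
  change Cfsg.hermForm 4 _ _ (A.1 *ᵥ Pi.single j 1) (A.1 *ᵥ Pi.single k 1) = _ at h
  simp only [Cfsg.hermForm, Matrix.mulVec_single_one, pow_card_eq_conj] at h
  have hL : (A.1ᵀ * A.1.map conjHom) j k = ∑ x, A.1 x j * QE.conj (A.1 x k) := by
    rw [Matrix.mul_apply]
    rfl
  have hR : ∑ x, ((Pi.single j 1 : Fin 4 → QE F a b) x) *
      QE.conj ((Pi.single k 1 : Fin 4 → QE F a b) x) =
      (1 : Matrix (Fin 4) (Fin 4) (QE F a b)) j k := by
    rw [Finset.sum_eq_single j]
    · rw [Pi.single_eq_same, one_mul, Matrix.one_apply]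
      by_cases hjk : j = k
      · subst hjk
        rw [Pi.single_eq_same, if_pos rfl]
        ext <;> simp
      · rw [Pi.single_eq_of_ne hjk, if_neg hjk]
        ext <;> simp
    · intro x _ hx
      rw [Pi.single_eq_of_ne hx, zero_mul]
    · intro h
      exact absurd (Finset.mem_univ j) h
  rw [hL, ← hR]
  exact h

end field

end Cfsg.Agent.Lib.Helper5.U4O6
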