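import Mathlib
import Cfsg.Agent.H9.Klein6d

/-!
The Klein correspondence and duality: for `det A = 1`, the action of `Aᵀ` on bivectors is the
adjoint of the action of `A⁻¹` with respect to the Klein quadric (author: helper5).
-/

set_option autoImplicit false

namespace Cfsg.Agent.Lib.Helper5.U4O6

open Cfsg.Agent.H9.Klein6 Matrix

universe u v
variable {R : Type u} [Field R]

/-- the dot product on bivector coordinates -/
def dot6 (v w : I6 → R) : R := ∑ c, v c * w c

theorem dot6_eq (v w : I6 → R) : dot6 v w =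
    v (.inl 0) * w (.inl 0) + v (.inl 1) * w (.inl 1) + v (.inl 2) * w (.inl 2) +
      (v (.inr 0) * w (.inr 0) + v (.inr 1) * w (.inr 1) + v (.inr 2) * w (.inr 2)) := by
  unfold dot6
  rw [Fintype.sum_sum_type, Fin.sum_univ_three, Fin.sum_univ_three]

set_option maxHeartbeats 1600000 in
theorem dot6_act (A : Matrix (Fin 4) (Fin 4) R) (v w : I6 → R) :
    dot6 (act A v) w = dot6 v (act Aᵀ w) := by
  rw [dot6_eq, dot6_eq]
  simp [act, phi, psi, Matrix.mul_apply, Fin.sum_univ_four]
  ring

/-- exchanging the two halves of the coordinates -/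
def sw6 (w : I6 → R) : I6 → R := fun c => w (Sum.swap c)

omit [Field R] in
theorem sw6_sw6 (w : I6 → R) : sw6 (sw6 w) = w := by
  funext c
  simp [sw6]

theorem Q6_add (v w : I6 → R) : Q6 (v + w) = Q6 v + Q6 w + dot6 v (sw6 w) := by
  rw [dot6_eq]
  simp [Q6, sw6]
  ring

theorem dot6_single (c : I6) (w : I6 → R) : dot6 (Pi.single c 1) w = w c := by
  classical
  unfold dot6
  rw [Finset.sum_eq_single c]
  · simp
  · intro d _ hd
    simp [hd]
  · intro h
    exact absurd (Finset.mem_univ c) h

theorem act_T_sw6_act (A : Matrix (Fin 4) (Fin 4) R) (hA : A.det = 1) (w : I6 → R) :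
    act Aᵀ (sw6 (act A w)) = sw6 w := by
  have key : ∀ v : I6 → R, dot6 v (act Aᵀ (sw6 (act A w))) = dot6 v (sw6 w) := by
    intro v
    rw [← dot6_act]
    have h1 := Q6_add (act A v) (act A w)
    have h2 := Q6_add v w
    rw [← act_add, Q6_act' A hA, Q6_act' A hA, Q6_act' A hA] at h1
    rw [h1] at h2
    linear_combination h2
  funext c
  have h := key (Pi.single c 1)
  rwa [dot6_single, dot6_single] at h

theorem act_map {S : Type v} [Field S] (f : R →+* S) (A : Matrix (Fin 4) (Fin 4) R) (w : I6 → R) :
    act (A.map f) (fun c => f (w c)) = fun c => f (act A w c) := by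
  funext c
  rcases c with i | i <;> fin_cases i <;>
    simp [act, phi, psi, Matrix.mul_apply, Fin.sum_univ_four]

theorem act_sub (A : Matrix (Fin 4) (Fin 4) R) (v w : I6 → R) :
    act A (v - w) = act A v - act A w := (Lin A).map_sub v w

end Cfsg.Agent.Lib.Helper5.U4O6
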