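import Mathlib
import Cfsg.Agent.Lib.Helper5.U4O6.Field
import Cfsg.Agent.Lib.Helper5.U4O6.Star

/-!
The real form of the Klein quadric over the quadratic extension `QE F a b`: vectors fixed by the
semilinear involution, and the explicit isometry with the minus-type form (author: helper5).
-/

set_option autoImplicit false

namespace Cfsg.Agent.Lib.Helper5.U4O6

open Cfsg.Agent.H9.Minus4 Cfsg.Agent.H9.Klein6 Matrix

universe u

/-- index type of the minus-type form in dimension six -/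
abbrev J6 : Type := (Fin 2 ⊕ Fin 2) ⊕ Fin 2

section coords
variable {F : Type u} [Field F] (a b : F)

/-- first coordinate of the frame map -/
def T1 (u : J6 → F) : QE F a b :=
  ⟨u (.inl (.inl 0)) - b * u (.inl (.inr 0)) * (a ^ 2 - 4 * b)⁻¹,
    u (.inl (.inl 1)) + (a * u (.inl (.inr 0)) - u (.inl (.inr 1))) * (a ^ 2 - 4 * b)⁻¹⟩

/-- second coordinate of the frame map (before scaling) -/
def T2 (u : J6 → F) : QE F a b :=
  ⟨u (.inl (.inl 0)) + (b * u (.inl (.inr 0)) - a * u (.inl (.inr 1))) * (a ^ 2 - 4 * b)⁻¹,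
    u (.inl (.inl 1)) + u (.inl (.inr 1)) * (a ^ 2 - 4 * b)⁻¹⟩

/-- third coordinate of the frame map -/
def T3 (u : J6 → F) : QE F a b := ⟨u (.inr 0), u (.inr 1)⟩

/-- the inverse of the frame map -/
def S0 (P Q Z : QE F a b) : J6 → F
  | .inl (.inl i) =>
      if i = 0 then P.re + b * (2 * (P.re - Q.re) + a * (P.im - Q.im)) * (a ^ 2 - 4 * b)⁻¹
      else Q.im - (a * (P.re - Q.re) + 2 * b * (P.im - Q.im)) * (a ^ 2 - 4 * b)⁻¹
  | .inl (.inr i) =>
      if i = 0 then 2 * (P.re - Q.re) + a * (P.im - Q.im)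
      else a * (P.re - Q.re) + 2 * b * (P.im - Q.im)
  | .inr i => if i = 0 then Z.re else Z.im

variable {a b}

theorem T1_add (u v : J6 → F) : T1 a b (u + v) = T1 a b u + T1 a b v := by
  ext <;> simp [T1] <;> ring

theorem T2_add (u v : J6 → F) : T2 a b (u + v) = T2 a b u + T2 a b v := by
  ext <;> simp [T2] <;> ring

theorem T3_add (u v : J6 → F) : (T3 a b (u + v) : QE F a b) = T3 a b u + T3 a b v := by
  ext <;> simp [T3]

theorem T1_smul (c : F) (u : J6 → F) : T1 a b (c • u) = QE.of c * T1 a b u := by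
  ext <;> simp [T1] <;> ring

theorem T2_smul (c : F) (u : J6 → F) : T2 a b (c • u) = QE.of c * T2 a b u := by
  ext <;> simp [T2] <;> ring

theorem T3_smul (c : F) (u : J6 → F) : (T3 a b (c • u) : QE F a b) = QE.of c * T3 a b u := by
  ext <;> simp [T3]

theorem nrm_T (hD : a ^ 2 - 4 * b ≠ 0) (u : J6 → F) :
    QE.nrm (T1 a b u) - QE.nrm (T2 a b u) + QE.nrm (T3 a b u : QE F a b) =
      Cfsg.quadFormMinus 2 F a b u := by
  simp only [QE.nrm, T1, T2, T3, Cfsg.quadFormMinus, Fin.sum_univ_two]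
  generalize hDdef : a ^ 2 - 4 * b = D at hD ⊢
  field_simp
  subst hDdef
  ring

theorem S0_T (hD : a ^ 2 - 4 * b ≠ 0) (u : J6 → F) :
    S0 a b (T1 a b u) (T2 a b u) (T3 a b u) = u := by
  funext c
  rcases c with (i | i) | i <;> fin_cases i <;> simp [S0, T1, T2, T3] <;>
    (generalize hDdef : a ^ 2 - 4 * b = D at hD ⊢; field_simp; subst hDdef; ring)

theorem T1_S0 (hD : a ^ 2 - 4 * b ≠ 0) (P Q Z : QE F a b) : T1 a b (S0 a b P Q Z) = P := by
  ext <;> simp [S0, T1] <;>
    (generalize hDdef : a ^ 2 - 4 * b = D at hD ⊢; field_simp; subst hDdef; ring)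

theorem T2_S0 (hD : a ^ 2 - 4 * b ≠ 0) (P Q Z : QE F a b) : T2 a b (S0 a b P Q Z) = Q := by
  ext <;> simp [S0, T2] <;>
    (generalize hDdef : a ^ 2 - 4 * b = D at hD ⊢; field_simp; subst hDdef; ring)

theorem T3_S0 (P Q Z : QE F a b) : T3 a b (S0 a b P Q Z) = Z := by
  ext <;> simp [S0, T3]

/-- the frame map -/
def Tm (l : QE F a b) (u : J6 → F) : Fin 3 → QE F a b :=
  ![T1 a b u, l * T2 a b u, T3 a b u]

/-- its inverse -/
def Sm (l : QE F a b) (x : Fin 3 → QE F a b) : J6 → F :=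
  S0 a b (x 0) (-(QE.conj l) * x 1) (x 2)

theorem mul_conj_of_nrm {l : QE F a b} (hl : QE.nrm l = -1) : l * QE.conj l = -1 := by
  rw [QE.mul_conj, hl]
  ext <;> simp

theorem Sm_Tm (hD : a ^ 2 - 4 * b ≠ 0) {l : QE F a b} (hl : QE.nrm l = -1) (u : J6 → F) :
    Sm l (Tm l u) = u := by
  have h1 : -(QE.conj l) * (l * T2 a b u) = T2 a b u := by
    linear_combination (-(T2 a b u)) * mul_conj_of_nrm hl
  unfold Sm Tm
  simp only [Matrix.cons_val_zero, Matrix.cons_val_one, Matrix.cons_val_two, Matrix.head_cons,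
    Matrix.tail_cons]
  rw [h1, S0_T hD]

theorem Tm_Sm (hD : a ^ 2 - 4 * b ≠ 0) {l : QE F a b} (hl : QE.nrm l = -1)
    (x : Fin 3 → QE F a b) : Tm l (Sm l x) = x := by
  have h1 : l * (-(QE.conj l) * x 1) = x 1 := by
    linear_combination (-(x 1)) * mul_conj_of_nrm hl
  funext i
  fin_cases i
  · simp [Tm, Sm, T1_S0 hD]
  · simp [Tm, Sm, T2_S0 hD]
    linear_combination h1
  · simp [Tm, Sm, T3_S0]

theorem Tm_add (l : QE F a b) (u v : J6 → F) : Tm l (u + v) = Tm l u + Tm l v := by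
  funext i
  fin_cases i
  · simp [Tm, T1_add]
  · simp [Tm, T2_add, mul_add]
  · simp [Tm, T3_add]

theorem Tm_smul (l : QE F a b) (c : F) (u : J6 → F) :
    Tm l (c • u) = fun i => QE.of c * Tm l u i := by
  funext i
  fin_cases i
  · simp [Tm, T1_smul]
  · simp [Tm, T2_smul]
    ring
  · simp [Tm, T3_smul]

/-- vectors of the real form -/
def emb (x : Fin 3 → QE F a b) : I6 → QE F a b := Sum.elim x (fun i => QE.conj (x i))

/-- the real form -/
def IsFix (w : I6 → QE F a b) : Prop := ∀ i, w (.inr i) = QE.conj (w (.inl i))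

theorem isFix_emb (x : Fin 3 → QE F a b) : IsFix (emb x) := fun _ => rfl

theorem emb_of_isFix (w : I6 → QE F a b) (hw : IsFix w) : emb (fun i => w (.inl i)) = w := by
  funext c
  rcases c with i | i
  · rfl
  · exact (hw i).symm

theorem emb_add (x y : Fin 3 → QE F a b) : emb (x + y) = emb x + emb y := by
  funext c
  rcases c with i | i
  · rfl
  · simp [emb, QE.conj_add]

theorem emb_smul (c : F) (x : Fin 3 → QE F a b) :
    emb (fun i => QE.of c * x i) = (QE.of c : QE F a b) • emb x := by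
  funext d
  rcases d with i | i
  · rfl
  · simp [emb, QE.conj_mul, QE.conj_of]

/-- the embedding of the minus-type space -/
def Phi (l : QE F a b) (u : J6 → F) : I6 → QE F a b := emb (Tm l u)

theorem Phi_add (l : QE F a b) (u v : J6 → F) : Phi l (u + v) = Phi l u + Phi l v := by
  unfold Phi
  rw [Tm_add, emb_add]

theorem Phi_smul (l : QE F a b) (c : F) (u : J6 → F) :
    Phi l (c • u) = (QE.of c : QE F a b) • Phi l u := by
  unfold Phi
  rw [Tm_smul, emb_smul]

theorem Phi_injective (hD : a ^ 2 - 4 * b ≠ 0) {l : QE F a b} (hl : QE.nrm l = -1) :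
    Function.Injective (Phi l) := by
  intro u v h
  have h1 : Tm l u = Tm l v := by
    funext i
    exact congrFun h (.inl i)
  rw [← Sm_Tm hD hl u, ← Sm_Tm hD hl v, h1]

theorem isFix_Phi (l : QE F a b) (u : J6 → F) : IsFix (Phi l u) := isFix_emb _

theorem exists_Phi (hD : a ^ 2 - 4 * b ≠ 0) {l : QE F a b} (hl : QE.nrm l = -1)
    (w : I6 → QE F a b) (hw : IsFix w) : ∃ u, Phi l u = w := by
  refine ⟨Sm l (fun i => w (.inl i)), ?_⟩
  unfold Phi
  rw [Tm_Sm hD hl, emb_of_isFix w hw]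

theorem isFix_iff (w : I6 → QE F a b) : IsFix w ↔ sw6 w = fun c => conjHom (w c) := by
  constructor
  · intro h
    funext c
    rcases c with i | i
    · exact h i
    · change w (.inl i) = QE.conj (w (.inr i))
      rw [h i, QE.conj_conj]
  · intro h i
    exact congrFun h (.inl i)

end coords

section field
variable {F : Type u} [Field F] [Fintype F] {a b : F} [hab : Fact (QE.Aniso a b)]

theorem Q6_emb (x : Fin 3 → QE F a b) :
    Q6 (emb x) = QE.of (QE.nrm (x 0) + QE.nrm (x 1) + QE.nrm (x 2)) := by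
  unfold Q6 emb
  simp only [Sum.elim_inl, Sum.elim_inr, QE.mul_conj, QE.of_add]

theorem Q6_Phi (hD : a ^ 2 - 4 * b ≠ 0) {l : QE F a b} (hl : QE.nrm l = -1) (u : J6 → F) :
    Q6 (Phi l u) = QE.of (Cfsg.quadFormMinus 2 F a b u) := by
  unfold Phi
  rw [Q6_emb, ← nrm_T hD u]
  congr 1
  simp only [Tm, Matrix.cons_val_zero, Matrix.cons_val_one, Matrix.cons_val_two, Matrix.head_cons,
    Matrix.tail_cons]
  rw [QE.nrm_mul, hl]
  ring

theorem act_isFix (A : Matrix (Fin 4) (Fin 4) (QE F a b)) (hA : IsU A) (w : I6 → QE F a b)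
    (hw : IsFix w) : IsFix (act A w) := by
  rw [isFix_iff] at hw ⊢
  have h1 := act_T_sw6_act A hA.1 w
  have h2 : A.map conjHom * Aᵀ = 1 := mul_eq_one_comm.1 hA.2
  calc sw6 (act A w) = act 1 (sw6 (act A w)) := (act_one _).symm
    _ = act (A.map conjHom * Aᵀ) (sw6 (act A w)) := by rw [h2]
    _ = act (A.map conjHom) (act Aᵀ (sw6 (act A w))) := act_mul _ _ _
    _ = act (A.map conjHom) (sw6 w) := by rw [h1]
    _ = act (A.map conjHom) (fun c => conjHom (w c)) := by rw [hw]
    _ = fun c => conjHom (act A w c) :=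
      act_map (R := QE F a b) (S := QE F a b) conjHom A w

/-- the action on the minus-type space -/
noncomputable def actU (l : QE F a b) (A : Matrix (Fin 4) (Fin 4) (QE F a b)) (u : J6 → F) : J6 → F :=
  Sm l (fun i => act A (Phi l u) (.inl i))

theorem Phi_actU (hD : a ^ 2 - 4 * b ≠ 0) {l : QE F a b} (hl : QE.nrm l = -1)
    (A : Matrix (Fin 4) (Fin 4) (QE F a b)) (hA : IsU A) (u : J6 → F) :
    Phi l (actU l A u) = act A (Phi l u) := by
  unfold actU
  conv_lhs => unfold Phi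
  rw [Tm_Sm hD hl]
  exact emb_of_isFix _ (act_isFix A hA _ (isFix_Phi l u))

theorem actU_add (hD : a ^ 2 - 4 * b ≠ 0) {l : QE F a b} (hl : QE.nrm l = -1)
    (A : Matrix (Fin 4) (Fin 4) (QE F a b)) (hA : IsU A) (u v : J6 → F) :
    actU l A (u + v) = actU l A u + actU l A v := by
  apply Phi_injective hD hl
  rw [Phi_actU hD hl A hA, Phi_add, Phi_add, Phi_actU hD hl A hA, Phi_actU hD hl A hA, act_add]

theorem actU_smul (hD : a ^ 2 - 4 * b ≠ 0) {l : QE F a b} (hl : QE.nrm l = -1)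
    (A : Matrix (Fin 4) (Fin 4) (QE F a b)) (hA : IsU A) (c : F) (u : J6 → F) :
    actU l A (c • u) = c • actU l A u := by
  apply Phi_injective hD hl
  rw [Phi_actU hD hl A hA, Phi_smul, Phi_smul, Phi_actU hD hl A hA, act_smul]

theorem actU_mul (hD : a ^ 2 - 4 * b ≠ 0) {l : QE F a b} (hl : QE.nrm l = -1)
    (A B : Matrix (Fin 4) (Fin 4) (QE F a b)) (hA : IsU A) (hB : IsU B) (hAB : IsU (A * B))
    (u : J6 → F) : actU l (A * B) u = actU l A (actU l B u) := by
  apply Phi_injective hD hl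
  rw [Phi_actU hD hl _ hAB, Phi_actU hD hl A hA, Phi_actU hD hl B hB, act_mul]

theorem actU_one (hD : a ^ 2 - 4 * b ≠ 0) {l : QE F a b} (hl : QE.nrm l = -1) (u : J6 → F) :
    actU l (1 : Matrix (Fin 4) (Fin 4) (QE F a b)) u = u := by
  unfold actU
  have : (fun i => act (1 : Matrix (Fin 4) (Fin 4) (QE F a b)) (Phi l u) (.inl i)) = Tm l u := by
    funext i
    rw [act_one]
    rfl
  rw [this, Sm_Tm hD hl]

theorem Q_actU (hD : a ^ 2 - 4 * b ≠ 0) {l : QE F a b} (hl : QE.nrm l = -1)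
    (A : Matrix (Fin 4) (Fin 4) (QE F a b)) (hA : IsU A) (u : J6 → F) :
    Cfsg.quadFormMinus 2 F a b (actU l A u) = Cfsg.quadFormMinus 2 F a b u := by
  apply QE.of_injective (a := a) (b := b)
  rw [← Q6_Phi hD hl, Phi_actU hD hl A hA, Q6_act' A hA.1, Q6_Phi hD hl]

omit [Fintype F] hab in
theorem th_conj_ne (hD : a ^ 2 - 4 * b ≠ 0) : QE.conj (th : QE F a b) - th ≠ 0 := by
  intro h
  have h1 := congrArg QE.re h
  have h2 := congrArg QE.im h
  simp [th] at h1 h2
  apply hD
  rw [h1]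
  linear_combination (2 * b) * h2

/-- a linear map fixing the real form is trivial -/
theorem act_eq_of_fix (hD : a ^ 2 - 4 * b ≠ 0) (A : Matrix (Fin 4) (Fin 4) (QE F a b))
    (h : ∀ w, IsFix w → act A w = w) (v : I6 → QE F a b) : act A v = v := by
  set sv : I6 → QE F a b := fun c => QE.conj (v (Sum.swap c)) with hsv
  have hf1 : IsFix (v + sv) := by
    intro i
    simp only [Pi.add_apply, hsv, Sum.swap_inr, Sum.swap_inl, QE.conj_add, QE.conj_conj]
    ring
  have hf2 : IsFix ((th : QE F a b) • v + QE.conj (th : QE F a b) • sv) := by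
    intro i
    simp only [Pi.add_apply, Pi.smul_apply, smul_eq_mul, hsv, Sum.swap_inr, Sum.swap_inl,
      QE.conj_add, QE.conj_mul, QE.conj_conj]
    ring
  have e : (QE.conj (th : QE F a b) - th) • v =
      QE.conj (th : QE F a b) • (v + sv) -
        ((th : QE F a b) • v + QE.conj (th : QE F a b) • sv) := by
    funext c
    simp only [Pi.add_apply, Pi.smul_apply, Pi.sub_apply, smul_eq_mul]
    ring
  have h3 : (QE.conj (th : QE F a b) - th) • act A v = (QE.conj (th : QE F a b) - th) • v := by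
    rw [← act_smul]
    conv_lhs => rw [e]
    rw [act_sub, act_smul, h _ hf1, h _ hf2, ← e]
  funext c
  exact mul_left_cancel₀ (th_conj_ne hD) (congrFun h3 c)

end field

end Cfsg.Agent.Lib.Helper5.U4O6
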