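import Mathlib
import Cfsg.Agent.Lib.Helper5.U4O6.Embed
import Cfsg.Agent.Lib.Helper8.SUTransport
import Cfsg.Agent.S0288

/-!
The homomorphism `SU₄(q) → O₆⁻(q)` and its kernel (author: helper5).
-/

set_option autoImplicit false

namespace Cfsg.Agent.Lib.Helper5.U4O6

open Cfsg.Agent.H9.Minus4 Cfsg.Agent.H9.Klein6 Matrix

universe u

variable {F : Type u} [Field F] [Fintype F] {a b : F} [hab : Fact (QE.Aniso a b)]

theorem disc_ne : a ^ 2 - 4 * b ≠ 0 := by
  have h := Cfsg.Agent.S0288.disc_ne_zero a b hab.out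
  intro h0
  apply h
  linear_combination -h0

theorem exists_lam : ∃ l : QE F a b, QE.nrm l = -1 := by
  obtain ⟨p, hp⟩ := Cfsg.Agent.S0288.exists_q₀_eq a b hab.out (-1)
  exact ⟨⟨p.1, p.2⟩, hp⟩

/-- an element of norm `-1` -/
noncomputable def lam : QE F a b := Classical.choose (exists_lam (hab := hab))

theorem nrm_lam : QE.nrm (lam : QE F a b) = -1 := Classical.choose_spec (exists_lam (hab := hab))

local notation "SU4" => Cfsg.SU 4 (QE F a b) (Fintype.card F)
local notation "OO" => Cfsg.isometryGroup F (Cfsg.quadFormMinus 2 F a b)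

theorem isU (A : SU4) : IsU A.1.1 := isU_of_mem A.1 A.2

/-- the action as a linear map -/
noncomputable def LinU (A : SU4) : (J6 → F) →ₗ[F] (J6 → F) where
  toFun := actU lam A.1.1
  map_add' := actU_add disc_ne nrm_lam A.1.1 (isU A)
  map_smul' c v := by simp [actU_smul disc_ne nrm_lam A.1.1 (isU A)]

theorem LinU_apply (A : SU4) (v : J6 → F) : LinU A v = actU lam A.1.1 v := rfl

/-- the action as a monoid hom to matrices -/
noncomputable def RmU : SU4 →* Matrix J6 J6 F where
  toFun A := LinearMap.toMatrix' (LinU A)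
  map_one' := by
    have : LinU (1 : SU4) = LinearMap.id := by
      refine LinearMap.ext fun v => ?_
      rw [LinU_apply]
      exact actU_one disc_ne nrm_lam v
    rw [this, LinearMap.toMatrix'_id]
  map_mul' A B := by
    have : LinU (A * B) = (LinU A).comp (LinU B) := by
      refine LinearMap.ext fun v => ?_
      rw [LinearMap.comp_apply, LinU_apply, LinU_apply, LinU_apply]
      exact actU_mul disc_ne nrm_lam A.1.1 B.1.1 (isU A) (isU B) (isU (A * B)) v
    rw [this, LinearMap.toMatrix'_comp]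

theorem RmU_mulVec (A : SU4) (v : J6 → F) : RmU A *ᵥ v = actU lam A.1.1 v := by
  change LinearMap.toMatrix' (LinU A) *ᵥ v = _
  rw [← Matrix.toLin'_apply, Matrix.toLin'_toMatrix', LinU_apply]

/-- into `GL₆` -/
noncomputable def R0U : SU4 →* GL J6 F := RmU.toHomUnits

theorem R0U_val (A : SU4) : (R0U A).1 = RmU A := rfl

theorem R0U_mem (A : SU4) : R0U A ∈ OO := by
  intro u _
  change Cfsg.quadFormMinus 2 F a b ((R0U A).1 *ᵥ u) = Cfsg.quadFormMinus 2 F a b u
  rw [R0U_val, RmU_mulVec, Q_actU disc_ne nrm_lam A.1.1 (isU A)]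

/-- the representation in the orthogonal group -/
noncomputable def ROU : SU4 →* OO := R0U.codRestrict _ R0U_mem

theorem ROU_mulVec (A : SU4) (v : J6 → F) :
    ((ROU A).1 : GL J6 F).1 *ᵥ v = actU lam A.1.1 v := RmU_mulVec A v

theorem ROU_eq_one_iff (A : SU4) : (ROU A : OO) = 1 ↔ ∀ v, actU lam A.1.1 v = v := by
  constructor
  · intro h v
    rw [← ROU_mulVec, h]
    simp
  · intro h
    apply Subtype.ext
    apply Units.ext
    change (R0U A).1 = 1
    rw [R0U_val]
    apply Matrix.toLin'.injective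
    refine LinearMap.ext fun v => ?_
    rw [Matrix.toLin'_apply, RmU_mulVec, h, Matrix.toLin'_one, LinearMap.id_apply]

theorem actU_eq_iff (A : SU4) : (∀ v, actU lam A.1.1 v = v) ↔ ∀ w, act A.1.1 w = w := by
  constructor
  · intro h
    apply act_eq_of_fix disc_ne
    intro w hw
    obtain ⟨u, rfl⟩ := exists_Phi disc_ne nrm_lam w hw
    rw [← Phi_actU disc_ne nrm_lam A.1.1 (isU A), h]
  · intro h v
    apply Phi_injective disc_ne (nrm_lam (hab := hab))
    rw [Phi_actU disc_ne nrm_lam A.1.1 (isU A), h]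

theorem mem_ker_iff (A : SU4) : A ∈ (ROU : SU4 →* OO).ker ↔ A.1.1 = 1 ∨ A.1.1 = -1 := by
  rw [MonoidHom.mem_ker, ROU_eq_one_iff, actU_eq_iff]
  constructor
  · exact eq_pm_one_of_act A.1.1
  · rintro (h | h) v
    · rw [h, act_one]
    · rw [h, act_neg_one]

theorem ker_le_center : (ROU : SU4 →* OO).ker ≤ Subgroup.center SU4 := by
  intro A hA
  rcases (mem_ker_iff A).1 hA with h | h
  · exact Cfsg.Agent.Lib.Helper8.SUTransport.scalar_mem_center A 1 (by rw [h, one_smul])
  · exact Cfsg.Agent.Lib.Helper8.SUTransport.scalar_mem_center A (-1) (by rw [h]; simp)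

end Cfsg.Agent.Lib.Helper5.U4O6
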