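import Mathlib
import Cfsg.Agent.Lib.Helper5.U4O6.Action
import Cfsg.Agent.H9.PerfIdx
import Cfsg.Agent.S0278
import Cfsg.Agent.S0780
import Cfsg.Agent.S0781

/-!
`Ω₆⁻(q)` is the image of `SU₄(q)` (author: helper5).
-/

set_option autoImplicit false

namespace Cfsg.Agent.Lib.Helper5.U4O6

open Cfsg.Agent.H9.Minus4 Cfsg.Agent.H9.Klein6 Matrix
open scoped commutatorElement

universe u

variable {F : Type u} [Field F] [Fintype F] {a b : F} [hab : Fact (QE.Aniso a b)]

local notation "SU4" => Cfsg.SU 4 (QE F a b) (Fintype.card F)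
local notation "OO" => Cfsg.isometryGroup F (Cfsg.quadFormMinus 2 F a b)

theorem commutator_SU4 : commutator SU4 = ⊤ := by
  have hcard : Fintype.card (QE F a b) = Fintype.card F ^ 2 := QE.card_eq
  have hgen := Cfsg.Agent.S0780.result hcard 4 (by norm_num) (by rintro ⟨h, -⟩; omega)
  rw [eq_top_iff, ← hgen, commutator_eq_closure]
  apply Subgroup.closure_mono
  rintro A ⟨v, c, hv, hA⟩
  exact Cfsg.Agent.S0781.result hcard 4 (Or.inl le_rfl) A v c hv hA

theorem perfect_range :
    ⁅(ROU : SU4 →* OO).range, (ROU : SU4 →* OO).range⁆ = (ROU : SU4 →* OO).range := by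
  rw [MonoidHom.range_eq_map, ← Subgroup.map_commutator, ← commutator_def, commutator_SU4]

/-- swapping the first hyperbolic pair -/
def swJ : Matrix J6 J6 F :=
  (Equiv.swap (Sum.inl (Sum.inl 0) : J6) (Sum.inl (Sum.inr 0))).permMatrix F

omit [Fintype F] in
theorem swJ_sq : (swJ : Matrix J6 J6 F) * swJ = 1 := by
  unfold swJ
  rw [← Matrix.permMatrix_mul]
  simp

omit [Fintype F] in
theorem det_swJ : (swJ : Matrix J6 J6 F).det = -1 := by
  unfold swJ
  rw [Matrix.det_permutation, Equiv.Perm.sign_swap (by decide)]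
  simp

omit [Fintype F] hab in
theorem Q_swJ (v : J6 → F) :
    Cfsg.quadFormMinus 2 F a b (swJ *ᵥ v) = Cfsg.quadFormMinus 2 F a b v := by
  unfold swJ
  rw [Matrix.permMatrix_mulVec]
  simp [Cfsg.quadFormMinus, Fin.sum_univ_two, Equiv.swap_apply_of_ne_of_ne]
  ring

/-- the swap as a unit -/
def swU : GL J6 F := ⟨swJ, swJ, swJ_sq, swJ_sq⟩

omit [Fintype F] in
theorem swU_val : (swU : GL J6 F).1 = swJ := rfl

omit [Fintype F] hab in
theorem swU_mem : (swU : GL J6 F) ∈ OO := by
  intro u _
  change Cfsg.quadFormMinus 2 F a b ((swU : GL J6 F).1 *ᵥ u) = Cfsg.quadFormMinus 2 F a b u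
  rw [swU_val, Q_swJ]

/-- the swap as an isometry -/
def swO : OO := ⟨swU, swU_mem⟩

omit [Fintype F] hab in
theorem commutator_ne_top (h2 : (2 : F) ≠ 0) : commutator OO ≠ ⊤ := by
  intro h
  let d : OO →* Fˣ := Matrix.GeneralLinearGroup.det.comp (Subgroup.subtype _)
  have hle : commutator OO ≤ d.ker := Abelianization.commutator_subset_ker d
  rw [h] at hle
  have hsw : (swO : OO) ∈ d.ker := hle (Subgroup.mem_top _)
  rw [MonoidHom.mem_ker] at hsw
  have h1 := congrArg Units.val hsw
  rw [show d swO = Matrix.GeneralLinearGroup.det (swO : OO).1 from rfl,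
    Matrix.GeneralLinearGroup.val_det_apply,
    show (((swO : OO).1 : Matrix.GeneralLinearGroup J6 F) : Matrix J6 J6 F) = swJ from rfl,
    det_swJ, Units.val_one] at h1
  apply h2
  linear_combination -h1

theorem det_neg_one4 : (-1 : Matrix (Fin 4) (Fin 4) (QE F a b)).det = 1 := by
  rw [Matrix.det_neg, Matrix.det_one]
  simp
  norm_num

/-- minus the identity -/
def negSL : Matrix.SpecialLinearGroup (Fin 4) (QE F a b) := ⟨-1, det_neg_one4⟩

theorem negSL_mem : (negSL : Matrix.SpecialLinearGroup (Fin 4) (QE F a b)) ∈ SU4 := by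
  intro u v
  change Cfsg.hermForm 4 _ _ ((-1 : Matrix (Fin 4) (Fin 4) (QE F a b)) *ᵥ u)
    ((-1 : Matrix (Fin 4) (Fin 4) (QE F a b)) *ᵥ v) = Cfsg.hermForm 4 _ _ u v
  simp only [Cfsg.hermForm, Matrix.neg_mulVec, Matrix.one_mulVec, Pi.neg_apply, pow_card_eq_conj]
  apply Finset.sum_congr rfl
  intro i _
  have : QE.conj (-(v i)) = -QE.conj (v i) := by ext <;> simp <;> ring
  rw [this]
  ring

/-- minus the identity in `SU₄` -/
def negSU : SU4 := ⟨negSL, negSL_mem⟩

theorem negSU_val : (negSU : SU4).1.1 = -1 := rfl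

/-- the kernel has at most two elements, and only one in characteristic two -/
theorem card_ker : Nat.card (ROU : SU4 →* OO).ker = 1 ∨
    (Nat.card (ROU : SU4 →* OO).ker = 2 ∧ (2 : F) ≠ 0) := by
  classical
  by_cases h2 : (2 : F) = 0
  · left
    have hneg1 : (-1 : QE F a b) = 1 := by
      ext
      · simp
        linear_combination -h2
      · simp
    have hneg : (-1 : Matrix (Fin 4) (Fin 4) (QE F a b)) = 1 := by
      refine Matrix.ext fun i j => ?_
      rw [Matrix.neg_apply, Matrix.one_apply]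
      split_ifs
      · exact hneg1
      · exact neg_zero
    have : (ROU : SU4 →* OO).ker = ⊥ := by
      rw [eq_bot_iff]
      intro A hA
      rw [Subgroup.mem_bot]
      rw [mem_ker_iff, hneg, or_self] at hA
      exact Subtype.ext (Subtype.ext hA)
    rw [this, Subgroup.card_bot]
  · right
    refine ⟨?_, h2⟩
    have hne : (-1 : Matrix (Fin 4) (Fin 4) (QE F a b)) ≠ 1 := by
      intro h
      have := congrArg QE.re (congrFun (congrFun h 0) 0)
      simp at this
      apply h2
      linear_combination -this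
    have hm : (negSU : SU4) ∈ (ROU : SU4 →* OO).ker := (mem_ker_iff negSU).2 (Or.inr negSU_val)
    have hm1 : (negSU : SU4) ≠ 1 := by
      intro h
      exact hne (congrArg (fun x : SU4 => x.1.1) h)
    have hall : ∀ x : (ROU : SU4 →* OO).ker, x = 1 ∨ x = ⟨negSU, hm⟩ := by
      rintro ⟨A, hA⟩
      rcases (mem_ker_iff A).1 hA with h | h
      · left
        exact Subtype.ext (Subtype.ext (Subtype.ext h))
      · right
        exact Subtype.ext (Subtype.ext (Subtype.ext h))
    have hfin : Finite (ROU : SU4 →* OO).ker := inferInstance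
    have : Fintype (ROU : SU4 →* OO).ker := Fintype.ofFinite _
    rw [Nat.card_eq_fintype_card]
    have huniv : (Finset.univ : Finset (ROU : SU4 →* OO).ker) = {1, ⟨negSU, hm⟩} := by
      ext x
      simp only [Finset.mem_univ, Finset.mem_insert, Finset.mem_singleton, true_iff]
      exact hall x
    rw [← Finset.card_univ, huniv, Finset.card_pair]
    intro h
    exact hm1 (congrArg Subtype.val h).symm

theorem card_OO_eq : Nat.card OO = 2 * Nat.card SU4 := by
  classical
  set q := Fintype.card F with hq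
  have hq2 : 2 ≤ q := Fintype.one_lt_card
  have hO := Cfsg.Agent.S0288.result (F := F) (q := q) rfl 3 (by norm_num) a b hab.out
  have hS := Cfsg.Agent.S0278.result (F := QE F a b) (q := q) QE.card_eq 4 (by norm_num)
  have hO' : Nat.card OO = 2 * q ^ 6 * (q ^ 3 + 1) * ((q ^ 2 - 1) * (q ^ 4 - 1)) := by
    change Nat.card OO = _ at hO
    rw [hO]
    simp [Finset.prod_range_succ]
  have hS' : (q + 1) * Nat.card SU4 =
      q ^ 6 * ((q + 1) * (q ^ 2 - 1) * (q ^ 3 + 1) * (q ^ 4 - 1)) := by
    rw [hS]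
    norm_num [Finset.prod_range_succ, Nat.even_iff]
  have hpos : 0 < q + 1 := by omega
  apply Nat.eq_of_mul_eq_mul_left hpos
  rw [hO']
  have : (q + 1) * (2 * Nat.card SU4) = 2 * ((q + 1) * Nat.card SU4) := by ring
  rw [this, hS']
  ring

theorem index_range :
    (ROU : SU4 →* OO).range.index = 2 * Nat.card (ROU : SU4 →* OO).ker := by
  have h1 := Subgroup.card_mul_index (ROU : SU4 →* OO).range
  have h2 := Subgroup.card_mul_index (ROU : SU4 →* OO).ker
  rw [Subgroup.index_ker] at h2
  rw [card_OO_eq, ← h2] at h1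
  have hpos : 0 < Nat.card (ROU : SU4 →* OO).range := Nat.card_pos
  apply Nat.eq_of_mul_eq_mul_left hpos
  rw [h1]
  ring

theorem Omega_eq_range :
    Cfsg.Omega F (Cfsg.quadFormMinus 2 F a b) = (ROU : SU4 →* OO).range := by
  have hidx : (ROU : SU4 →* OO).range.index = 2 ∨ (ROU : SU4 →* OO).range.index = 4 := by
    rw [index_range]
    rcases card_ker (F := F) (a := a) (b := b) with h | ⟨h, -⟩ <;> rw [h]
    · left; rfl
    · right; rfl
  exact Cfsg.Agent.H9.PerfIdx.commutator_eq _ perfect_range hidx (by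
    intro h4
    rw [index_range] at h4
    rcases card_ker (F := F) (a := a) (b := b) with h | ⟨-, h⟩
    · rw [h] at h4; omega
    · exact commutator_ne_top h)

end Cfsg.Agent.Lib.Helper5.U4O6
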